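import Cfsg.Agent.J4Rep94.C7.Data

/-!
# Certificate data
-/

set_option autoImplicit false
set_option maxRecDepth 100000

namespace Cfsg.Agent.J4Rep94.C7

open Cfsg.Agent.CosetEnum

def fv0 : ℕ := 0x10000300005000070000900071000730007500077000790007b0008600082000800007e00088000490004b0004d0004f00051000530005500057000180006e0006c0006a00068000660006400062000600005e0005c0005a000580000c0002c000020007c00001000460000100023000000007a00078000760007400072000840000d0000f00011000130000a00082000800007e0007c0004400042000400003e0003c0003a00038000360003400032000300002e0002c0002a00028000260002400022000200001e0001c0001a0001800016000140001d0000a0000100070000010000a000010000500000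
theorem fok0 : sys.checkFacts 66 4 fv0 = true := by decide +kernel


end Cfsg.Agent.J4Rep94.C7
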